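import Cfsg.Agent.Lib.ThreeSizes.Common
import Cfsg.Agent.Lib.PrimePowerClass.PElement
import Cfsg.Agent.Lib.Core.Fitting

/-!
Two class sizes of `p`-regular elements with two primes having non-central elements: every
class size of a `p`-regular element is a power of `p`.
-/

set_option autoImplicit false

namespace Cfsg.Agent.Lib.TwoRegular69

open Subgroup ClassSizeTop ThreeSizes Cfsg

universe u

variable {G : Type u} [Group G] [Finite G] {p n : ℕ}

/-- all non-central `p`-regular elements have classes of size `n` -/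
def TwoSizes (G : Type u) [Group G] (p n : ℕ) : Prop :=
  ∀ x : G, (orderOf x).Coprime p → x ∉ center G → idx x = n

/-- a prime other than `p` with a non-central element -/
def Active (G : Type u) [Group G] (p q : ℕ) : Prop :=
  q.Prime ∧ q ≠ p ∧ ∃ v : G, El q v ∧ v ∉ center G

/-- at least two active primes -/
def TwoActive (G : Type u) [Group G] (p : ℕ) : Prop :=
  ∀ q : ℕ, ∃ s, Active G p s ∧ s ≠ q

variable {hp : p.Prime}

theorem coprime_p (hp : p.Prime) {q : ℕ} (hq : q.Prime) (hqp : q ≠ p) {v : G} (hv : El q v) :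
    (orderOf v).Coprime p := by
  obtain ⟨k, hk⟩ := hv.orderOf_dvd
  exact (((Nat.coprime_primes hq hp).2 hqp).pow_left k).coprime_dvd_left hk

theorem idx_eq (hT : TwoSizes G p n) (hp : p.Prime) {q : ℕ} (hq : q.Prime) (hqp : q ≠ p) {v : G}
    (hv : El q v) (hvZ : v ∉ center G) : idx v = n :=
  hT v (coprime_p hp hq hqp hv) hvZ

/-- commuting non-central primary elements of different primes have the same centraliser -/
theorem cen_eq_of_ne (hT : TwoSizes G p n) (hp : p.Prime) {q s : ℕ} (hq : q.Prime) (hqp : q ≠ p)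
    (hs : s.Prime) (hsp : s ≠ p) (hqs : q ≠ s) {u v : G} (hu : El q u) (hv : El s v)
    (huZ : u ∉ center G) (hvZ : v ∉ center G) (h : v ∈ cen u) : cen u = cen v := by
  have huv := mul_not_mem_center hq hs hqs hu hv h huZ
  have hco : (orderOf (u * v)).Coprime p := by
    refine Nat.Coprime.coprime_dvd_left ?_ ((coprime_p hp hq hqp hu).mul_left
      (coprime_p hp hs hsp hv))
    exact (show Commute u v from (mem_cent.1 h).symm).orderOf_mul_dvd_mul_orderOf
  have hn := hT _ hco huv
  have h1 := cen_mul hq hs hqs hu hv h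
  have e1 : cen (u * v) = cen u :=
    eq_of_le_of_idx (h1.le.trans inf_le_left) (by rw [hn, idx_eq hT hp hq hqp hu huZ])
  have e2 : cen (u * v) = cen v :=
    eq_of_le_of_idx (h1.le.trans inf_le_right) (by rw [hn, idx_eq hT hp hs hsp hv hvZ])
  rw [← e1, e2]

/-- every centraliser meets every active prime -/
theorem exists_el_cen (hT : TwoSizes G p n) (hp : p.Prime) {q s : ℕ} (hq : q.Prime) (hqp : q ≠ p)
    (hs : Active G p s) {u : G} (hu : El q u) (huZ : u ∉ center G) :
    ∃ v ∈ cen u, El s v ∧ v ∉ center G := by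
  obtain ⟨hs', hsp, v, hv, hvZ⟩ := hs
  haveI := Fact.mk hs'
  refine exists_el_of_dvd (A := cen u) ?_
  have h := dvd_kk_of_el hs' hv hvZ
  rwa [kk_eq_of_idx_eq ((idx_eq hT hp hs' hsp hv hvZ).trans (idx_eq hT hp hq hqp hu huZ).symm)] at h

theorem cen_eq (hT : TwoSizes G p n) (hp : p.Prime) (h2 : TwoActive G p) {q s : ℕ} (hq : q.Prime)
    (hqp : q ≠ p) (hs : s.Prime) (hsp : s ≠ p) {u v : G} (hu : El q u) (hv : El s v)
    (huZ : u ∉ center G) (hvZ : v ∉ center G) (h : v ∈ cen u) : cen u = cen v := by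
  rcases eq_or_ne q s with rfl | hne
  · obtain ⟨l, hl, hlq⟩ := h2 q
    obtain ⟨w, hwv, hw, hwZ⟩ := exists_el_cen hT hp hq hqp hl hv hvZ
    have e1 := cen_eq_of_ne hT hp hq hqp hl.1 hl.2.1 hlq.symm hv hw hvZ hwZ hwv
    have hwu : w ∈ cen u := mem_cen_comm (e1 ▸ mem_cen_comm h)
    rw [e1, cen_eq_of_ne hT hp hq hqp hl.1 hl.2.1 hlq.symm hu hw huZ hwZ hwu]
  · exact cen_eq_of_ne hT hp hq hqp hs hsp hne hu hv huZ hvZ h

/-- the centre of a centraliser -/
def cz (u : G) : Subgroup G := cen u ⊓ centralizer (cen u : Set G)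

theorem cz_comm (u : G) : ∀ a ∈ cz u, ∀ b ∈ cz u, a * b = b * a := fun _ ha _ hb =>
  mem_centralizer_iff.1 (mem_inf.1 hb).2 _ (mem_inf.1 ha).1

theorem mem_cz (hT : TwoSizes G p n) (hp : p.Prime) (h2 : TwoActive G p) {q s : ℕ} (hq : q.Prime)
    (hqp : q ≠ p) (hs : s.Prime) (hsp : s ≠ p) {u v : G} (hu : El q u) (huZ : u ∉ center G)
    (hv : El s v) (h : v ∈ cen u) : v ∈ cz u := by
  refine mem_inf.2 ⟨h, mem_centralizer_iff.2 fun d hd => ?_⟩
  by_cases hvZ : v ∈ center G
  · exact mem_center_iff.1 hvZ d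
  · rw [cen_eq hT hp h2 hq hqp hs hsp hu hv huZ hvZ h] at hd
    exact mem_cent.1 hd

/-- the structure leads to a contradiction when a prime other than `p` divides `n` -/
theorem false_of_dvd (hT : TwoSizes G p n) (hp : p.Prime) (h2 : TwoActive G p) {r : ℕ}
    [hr : Fact r.Prime] (hrp : r ≠ p) (hrn : r ∣ n) : False := by
  obtain ⟨q, ⟨hq, hqp, yq, hyq, hyqZ⟩, hqr⟩ := h2 r
  haveI := Fact.mk hq
  haveI := Fact.mk hp
  have hidx : idx yq = n := idx_eq hT hp hq hqp hyq hyqZ
  -- primes dividing `n`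
  have hPR : PR p r n := by
    intro t ht htn
    by_contra hcon
    push Not at hcon
    haveI := Fact.mk ht
    have hact : ∀ l : ℕ, l.Prime → l ≠ p → l ∣ n → Active G p l := by
      intro l hl hlp hln
      haveI := Fact.mk hl
      obtain ⟨v, hv, hvZ⟩ :=
        exists_el_of_dvd_index ((hln.trans hidx.symm.dvd).trans (idx_dvd_index_center yq))
      exact ⟨hl, hlp, v, hv, hvZ⟩
    obtain ⟨_, _, ct, hct, hctZ⟩ := hact t ht hcon.1 htn
    obtain ⟨cr, hcr', hcr, hcrZ⟩ :=
      exists_el_cen hT hp ht hcon.1 (hact r hr.out hrp hrn) hct hctZ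
    have huniq : ∀ l, l.Prime → l ≠ p → ∀ x ∈ cen ct, El l x → x ∉ center G →
        (⊤ : Subgroup G) ⊓ cen x = cen ct := fun l hl hlp x hx hxl hxZ => by
      rw [top_inf_eq, cen_eq hT hp h2 ht hcon.1 hl hlp hct hxl hctZ hxZ hx]
    have hdvd : n ∣ (cen ct).relIndex ⊤ := by
      rw [relIndex_top_right]
      exact dvd_of_eq (idx_eq hT hp ht hcon.1 hct hctZ).symm
    exact false_of_two_nonfull (Z := center G) (H := ⊤) (D := cen ct) le_top
      (fun g _ z hz => mem_center_iff.1 hz g) hcon.2 (mem_cent.2 rfl) hct hctZ hcr' hcr hcrZ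
      (huniq t ht hcon.1) (huniq r hr.out hrp) (htn.trans hdvd) (hrn.trans hdvd)
  have hfull : ∀ l, l.Prime → l ≠ p → l ≠ r → ¬ l ∣ n := fun l hl hlp hlr h =>
    (hPR l hl h).elim hlp hlr
  -- the distinguished element
  obtain ⟨R⟩ : Nonempty (Sylow r G) := inferInstance
  have hrv : ∃ v : G, El r v ∧ v ∉ center G :=
    exists_el_of_dvd_index ((hrn.trans hidx.symm.dvd).trans (idx_dvd_index_center yq))
  obtain ⟨w, -, hw, hwZ, hwR⟩ := exists_centralish R hrv
  have hwn : idx w = n := idx_eq hT hp hr.out hrp hw hwZ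
  set A := cz w with hA
  have hRA : (R : Subgroup G) ≤ normalizer (A : Set G) := by
    intro g hg
    have hN := norms_of_mem_normalizer (le_normalizer_cen hwR hg)
    have hN' := norms_of_mem_normalizer (le_normalizer_cen hwR (inv_mem hg))
    refine mem_normalizer_of_norms fun a ha => mem_inf.2
      ⟨hN a (mem_inf.1 ha).1, mem_centralizer_iff.2 fun d hd => ?_⟩
    have hd' : g⁻¹ * d * g ∈ cen w := by simpa using hN' d hd
    calc d * (g * a * g⁻¹) = g * ((g⁻¹ * d * g) * a) * g⁻¹ := by group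
      _ = g * (a * (g⁻¹ * d * g)) * g⁻¹ := by
          rw [mem_centralizer_iff.1 (mem_inf.1 ha).2 _ hd']
      _ = g * a * g⁻¹ * d := by group
  have hpar : ∀ l, l.Prime → l ≠ p → ∀ x : G, El l x → x ∈ cen w → x ∈ A :=
    fun l hl hlp x hx h => mem_cz hT hp h2 hr.out hrp hl hlp hw hwZ hx h
  have hPRA : PR p r A.index := by
    intro t ht htd
    rw [← relIndex_mul_index (show A ≤ cen w from inf_le_left)] at htd
    rcases ht.dvd_mul.1 htd with h | h
    · by_contra hcon
      push Not at hcon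
      haveI := Fact.mk ht
      obtain ⟨S⟩ : Nonempty (Sylow t (cen w)) := inferInstance
      refine S.not_dvd_index' FiniteIndex.index_ne_zero (h.trans ?_)
      refine index_dvd_of_le fun x hx => ?_
      obtain ⟨k, hk⟩ := S.2 ⟨x, hx⟩
      exact mem_subgroupOf.2 (hpar t ht hcon.1 _
        ⟨k, by simpa using congrArg (fun z : (S : Subgroup (cen w)) => ((z : cen w) : G)) hk⟩ x.2)
    · exact hPR t ht (h.trans (dvd_of_eq hwn))
  -- conjugation into `A`
  obtain ⟨y, hyw, hy, hyZ⟩ :=
    exists_el_cen hT hp hr.out hrp ⟨hq, hqp, yq, hyq, hyqZ⟩ hw hwZ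
  have hyA : y ∈ A := hpar q hq hqp y hy hyw
  have hcy : cen w = cen y := cen_eq hT hp h2 hr.out hrp hq hqp hw hy hwZ hyZ hyw
  have hinto : ∀ v : G, El r v → v ∉ center G → ∃ g : G, g * v * g⁻¹ ∈ A := by
    intro v hv hvZ
    obtain ⟨z, hzv, hz, hzZ⟩ :=
      exists_el_cen hT hp hr.out hrp ⟨hq, hqp, yq, hyq, hyqZ⟩ hv hvZ
    have hnd : ¬ q ∣ (cen w).index := fun h =>
      hfull q hq hqp hqr (h.trans (dvd_of_eq hwn))
    obtain ⟨g, hg⟩ := exists_conj_mem hnd hz
    refine ⟨g, hpar r hr.out hrp _ (hv.conj g) ?_⟩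
    have h1 := mem_cen_conj (g := g) hzv
    rw [hcy] at hg ⊢
    rw [cen_eq hT hp h2 hq hqp hq hqp hy (hz.conj g) hyZ (not_mem_center_conj hzZ g) hg]
    exact mem_cen_comm h1
  -- solvability
  haveI hsolv : Group.IsSolvable G := by
    refine solvable_of_big hp hr.out (fun l hl hlp _ v hv => ?_) (fun v hv => ?_)
    · by_cases hvZ : v ∈ center G
      · rw [idx_eq_one_iff.2 hvZ]
        exact fun t ht h => absurd h ht.not_dvd_one
      · rw [idx_eq hT hp hl hlp hv hvZ]; exact hPR
    · by_cases hvZ : v ∈ center G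
      · exact Or.inl hvZ
      · obtain ⟨g, hg⟩ := hinto v hv hvZ
        exact (big_of_sylow hp (cz_comm w) R hRA hPRA hg).of_conj
  -- an element of `R` outside the centraliser
  obtain ⟨v, hvR, hvw⟩ : ∃ v ∈ (R : Subgroup G), v ∉ cen w := by
    by_contra h
    push Not at h
    exact R.not_dvd_index' FiniteIndex.index_ne_zero
      ((hrn.trans hwn.symm.dvd).trans (index_dvd_of_le h))
  have hv : El r v := (R.2 ⟨v, hvR⟩).imp fun k hk => congrArg Subtype.val hk
  have hvZ : v ∉ center G := fun h => hvw (center_le_cen w h)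
  set O := pCore p G with hO
  set π := QuotientGroup.mk' O with hπ
  have hO1 : ∀ {l : ℕ}, l.Prime → l ≠ p → ∀ c : G, El l c → c ∈ O → c = 1 := by
    intro l hl hlp c hc hcO
    obtain ⟨k, hk⟩ := PSolvable.pCore_isPGroup (p := p) (G := G) ⟨c, hcO⟩
    exact hc.eq_one hl hp hlp ⟨k, congrArg Subtype.val hk⟩
  -- the elements of `A` of prime power order lie over the Fitting subgroup
  have hF : ∀ l, l.Prime → l ≠ p → l ≠ r → ∀ a ∈ A, El l a → π a ∈ pCore l (G ⧸ O) := by
    intro l hl hlp hlr a haA hal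
    haveI := Fact.mk hl
    set F := fittingSubgroup (G ⧸ O) with hFdef
    haveI : F.Normal := Fitting.fittingSubgroup_normal
    have hnil : Group.IsNilpotent F := Fitting.isNilpotent_fittingSubgroup
    have hmem : π a ∈ F := by
      refine Fitting.centralizer_fittingSubgroup_le (mem_centralizer_iff.2 fun f hf => ?_)
      suffices h : f ∈ cen (π a) from mem_cent.1 h
      refine mem_of_parts fun t ht u hu hue => ?_
      haveI := Fact.mk ht
      have huF : u ∈ F := (zpowers_le.2 hf) hu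
      have huc : u ∈ pCore t (G ⧸ O) :=
        PrimePowerClass.mem_pCore_of_nilpotent_normal F hnil huF (by
          obtain ⟨k, hk⟩ := hue.orderOf_dvd
          obtain ⟨j, -, hj⟩ := (Nat.dvd_prime_pow ht).1 hk
          exact ⟨j, hj⟩)
      rcases eq_or_ne t p with rfl | htp
      · rw [PSolvable.pCore_quotient_eq_bot, mem_bot] at huc
        rw [huc]; exact one_mem _
      rcases eq_or_ne t r with rfl | htr
      · -- elements of `O_r` come from `R` and normalise `A`
        have hle : pCore t (G ⧸ O) ≤ (R : Subgroup G).map π := by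
          have hsurj : Function.Surjective π := QuotientGroup.mk'_surjective O
          exact (PSolvable.pCore_isPGroup).le_sylow_of_normal (R.mapSurjective hsurj)
        obtain ⟨f', hf', rfl⟩ := hle huc
        have hcA : f' * a * f'⁻¹ * a⁻¹ ∈ A :=
          mul_mem (norms_of_mem_normalizer (hRA hf') a haA) (inv_mem haA)
        have hcl : El l (f' * a * f'⁻¹ * a⁻¹) := by
          obtain ⟨k, hk⟩ := hal
          refine ⟨k, ?_⟩
          have hcomm : Commute (f' * a * f'⁻¹) a⁻¹ :=
            cz_comm w _ (norms_of_mem_normalizer (hRA hf') a haA) _ (inv_mem haA)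
          rw [hcomm.mul_pow, conj_pow, hk, inv_pow, hk]
          group
        have hcore : π (f' * a * f'⁻¹ * a⁻¹) ∈ pCore t (G ⧸ O) := by
          have he : π (f' * a * f'⁻¹ * a⁻¹) = π f' * (π a * (π f')⁻¹ * (π a)⁻¹) := by
            simp [mul_assoc]
          rw [he]
          exact mul_mem huc ((inferInstance : (pCore t (G ⧸ O)).Normal).conj_mem _ (inv_mem huc) _)
        have h1 : π (f' * a * f'⁻¹ * a⁻¹) = 1 := by
          obtain ⟨k, hk⟩ := PSolvable.pCore_isPGroup (p := t) (G := G ⧸ O) ⟨_, hcore⟩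
          exact (hcl.map π).eq_one hl ht hlr ⟨k, congrArg Subtype.val hk⟩
        have h2 : f' * a * f'⁻¹ * a⁻¹ = 1 := hO1 hl hlp _ hcl ((QuotientGroup.eq_one_iff _).1 h1)
        refine mem_cent.2 ?_
        rw [← map_mul, ← map_mul]
        exact congrArg π (mul_inv_eq_iff_eq_mul.1 (mul_inv_eq_one.1 h2))
      · -- the other cores lie in the image of the centraliser
        set K := (cen w).map π with hK
        have hle : pCore t (G ⧸ O) ≤ K := by
          have hd : K.relIndex (pCore t (G ⧸ O)) ∣ (cen w).index :=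
            (PrimePowerClass.relIndex_dvd_index_of_normal' K _).trans
              (index_map_dvd _ (QuotientGroup.mk'_surjective O))
          obtain ⟨k, hk⟩ := (PSolvable.pCore_isPGroup (p := t) (G := G ⧸ O)).exists_card_eq
          obtain ⟨i, -, hi⟩ := (Nat.dvd_prime_pow ht).1
            ((relIndex_dvd_card K (pCore t (G ⧸ O))).trans hk.dvd)
          rcases Nat.eq_zero_or_pos i with h0 | h0
          · rwa [h0, pow_zero, relIndex_eq_one] at hi
          · exact absurd ((dvd_pow_self t h0.ne').trans ((hi ▸ hd).trans hwn.dvd))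
              (hfull t ht htp htr)
        obtain ⟨c, hc, rfl⟩ := hle huc
        obtain ⟨c₁, c₂, hcc, hcomm, hc₁, hc₂, hc₁m, hc₂m⟩ := exists_el_part t c
        have hc2 : π c₂ = 1 := by
          have hπc₂ : π c₂ ∈ zpowers (π c) := by
            obtain ⟨j, rfl⟩ := mem_zpowers_iff.1 hc₂m
            rw [map_zpow]
            exact zpow_mem (mem_zpowers _) j
          obtain ⟨k, hk⟩ := PSolvable.pCore_isPGroup (p := t) (G := G ⧸ O)
            ⟨π c₂, zpowers_le.2 huc hπc₂⟩
          refine orderOf_eq_one_iff.1 (Nat.eq_one_of_dvd_coprimes (hc₂.pow_right k)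
            (orderOf_map_dvd π c₂) (orderOf_dvd_of_pow_eq_one (congrArg Subtype.val hk)))
        have hc₁A : c₁ ∈ A := hpar t ht htp c₁ hc₁ (zpowers_le.2 hc hc₁m)
        refine mem_cent.2 ?_
        rw [hcc, map_mul, hc2, mul_one, ← map_mul, ← map_mul, cz_comm w c₁ hc₁A a haA]
    refine PrimePowerClass.mem_pCore_of_nilpotent_normal F hnil hmem ?_
    obtain ⟨k, hk⟩ := (hal.map π).orderOf_dvd
    obtain ⟨j, -, hj⟩ := (Nat.dvd_prime_pow hl).1 hk
    exact ⟨j, hj⟩
  -- conjugates of elements of `A` centralise the normal subgroup `O_q`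
  set K := (cen w).map π with hK
  have hle : pCore q (G ⧸ O) ≤ K := by
    have hd : K.relIndex (pCore q (G ⧸ O)) ∣ (cen w).index :=
      (PrimePowerClass.relIndex_dvd_index_of_normal' K _).trans
        (index_map_dvd _ (QuotientGroup.mk'_surjective O))
    obtain ⟨k, hk⟩ := (PSolvable.pCore_isPGroup (p := q) (G := G ⧸ O)).exists_card_eq
    obtain ⟨i, -, hi⟩ := (Nat.dvd_prime_pow hq).1
      ((relIndex_dvd_card K (pCore q (G ⧸ O))).trans hk.dvd)
    rcases Nat.eq_zero_or_pos i with h0 | h0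
    · rwa [h0, pow_zero, relIndex_eq_one] at hi
    · exact absurd ((dvd_pow_self q h0.ne').trans ((hi ▸ hd).trans hwn.dvd))
        (hfull q hq hqp hqr)
  obtain ⟨g, hg⟩ := hinto v hv hvZ
  have hcentral : π (g * v * g⁻¹) ∈ centralizer (pCore q (G ⧸ O) : Set (G ⧸ O)) := by
    refine mem_centralizer_iff.2 fun z hz => ?_
    obtain ⟨c, hc, rfl⟩ := hle hz
    rw [← map_mul, ← map_mul, mem_centralizer_iff.1 (mem_inf.1 hg).2 c hc]
  have hvc : π v ∈ centralizer (pCore q (G ⧸ O) : Set (G ⧸ O)) := by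
    have h := (inferInstance : (centralizer (pCore q (G ⧸ O) : Set (G ⧸ O))).Normal).conj_mem _
      hcentral (π g⁻¹)
    simpa [mul_assoc] using h
  have hπy : π y ∈ pCore q (G ⧸ O) := hF q hq hqp hqr y hyA hy
  have hcq : El q (v * y * v⁻¹ * y⁻¹) := by
    obtain ⟨k, hk⟩ := hy
    refine ⟨k, ?_⟩
    have hcomm : Commute (v * y * v⁻¹) y⁻¹ :=
      cz_comm w _ (norms_of_mem_normalizer (hRA hvR) y hyA) _ (inv_mem hyA)
    rw [hcomm.mul_pow, conj_pow, hk, inv_pow, hk]
    group
  have h1 : π (v * y * v⁻¹ * y⁻¹) = 1 := by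
    rw [map_mul, map_mul, map_mul, ← mem_centralizer_iff.1 hvc _ hπy, map_inv, map_inv]
    group
  have h3 := hO1 hq hqp _ hcq ((QuotientGroup.eq_one_iff _).1 h1)
  apply hvw
  rw [hcy]
  exact mem_cent.2 (mul_inv_eq_iff_eq_mul.1 (mul_inv_eq_one.1 h3))

/-- with two active primes all classes of `p`-regular elements have `p`-power size -/
theorem eq_pow_of_twoActive (hT : TwoSizes G p n) (hp : p.Prime) (h2 : TwoActive G p) :
    ∃ k, n = p ^ k := by
  obtain ⟨q, ⟨hq, hqp, y, hy, hyZ⟩, -⟩ := h2 p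
  have hn : idx y = n := idx_eq hT hp hq hqp hy hyZ
  refine ⟨n.primeFactorsList.length,
    Nat.eq_prime_pow_of_unique_prime_dvd (hn ▸ (idx_pos y).ne') fun {d} hd hdn => ?_⟩
  by_contra hdp
  haveI := Fact.mk hd
  exact false_of_dvd hT hp h2 hdp hdn

end Cfsg.Agent.Lib.TwoRegular69
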